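import Groth.Agent.L28.Cyclic.Local
import Groth.Agent.L03.RegularNormal
import Mathlib.RingTheory.Flat.Basic
import Mathlib.RingTheory.Polynomial.ScaleRoots
import Mathlib.Algebra.Field.IsField

/-!
The algebra of a cyclic cover branched along a regular divisor.
-/

set_option autoImplicit false
universe u

open Polynomial IsLocalRing

namespace Groth.L28.Cyclic

/-- The data: `t ^ N = u * f ^ α` in `L`, where `f` is inverted by `w` and the `t ^ i` are
independent over `B`. -/
structure Setup (B L : Type u) [CommRing B] [CommRing L] [Algebra B L] where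
  N : ℕ
  hN : 0 < N
  α : ℕ
  f : B
  u : Bˣ
  t : L
  w : L
  hw : algebraMap B L f * w = 1
  ht : t ^ N = algebraMap B L u * algebraMap B L f ^ α
  li : ∀ c : Fin N → B, (∑ i, c i • t ^ (i : ℕ)) = 0 → ∀ i, c i = 0
  span : ∀ x : L, ∃ n : ℕ, x * algebraMap B L f ^ n ∈
    Submodule.span B (Set.range fun i : Fin N => t ^ (i : ℕ))

variable {B L : Type u} [CommRing B] [CommRing L] [Algebra B L]

namespace Setup

variable (D : Setup B L)

/-- The generators. -/
def E (i : ℕ) : L := D.t ^ i * D.w ^ (i * D.α / D.N)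

theorem w_pow_mul_pow {a b : ℕ} (h : a ≤ b) :
    D.w ^ a * algebraMap B L D.f ^ b = algebraMap B L D.f ^ (b - a) := by
  obtain ⟨c, rfl⟩ := Nat.exists_eq_add_of_le h
  rw [Nat.add_sub_cancel_left, pow_add, ← mul_assoc, ← mul_pow, mul_comm D.w, D.hw, one_pow, one_mul]

theorem pow_w_mul {a b : ℕ} (h : a ≤ b) :
    algebraMap B L D.f ^ a * D.w ^ b = D.w ^ (b - a) := by
  obtain ⟨c, rfl⟩ := Nat.exists_eq_add_of_le h
  rw [Nat.add_sub_cancel_left, pow_add, ← mul_assoc, ← mul_pow, D.hw, one_pow, one_mul]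

theorem E_add_N (i : ℕ) : D.E (i + D.N) = algebraMap B L D.u * D.E i := by
  have h : (i + D.N) * D.α / D.N = i * D.α / D.N + D.α := by
    rw [Nat.add_mul, Nat.add_mul_div_left _ _ D.hN]
  rw [E, E, h, pow_add, pow_add, D.ht]
  calc _ = algebraMap B L D.u * (D.t ^ i * D.w ^ (i * D.α / D.N)) *
        (algebraMap B L D.f * D.w) ^ D.α := by ring
    _ = _ := by rw [D.hw, one_pow, mul_one]

theorem E_mul (i j : ℕ) : D.E i * D.E j =
    algebraMap B L (D.f ^ ((i + j) * D.α / D.N - (i * D.α / D.N + j * D.α / D.N))) * D.E (i + j) := by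
  have h : i * D.α / D.N + j * D.α / D.N ≤ (i + j) * D.α / D.N := by
    rw [Nat.add_mul]; exact Nat.div_add_div_le_add_div
  obtain ⟨c, hc⟩ := Nat.exists_eq_add_of_le h
  rw [E, E, E, hc, Nat.add_sub_cancel_left, map_pow]
  calc _ = D.t ^ i * D.t ^ j * D.w ^ (i * D.α / D.N) * D.w ^ (j * D.α / D.N) *
        (algebraMap B L D.f * D.w) ^ c := by rw [D.hw, one_pow, mul_one]; ring
    _ = _ := by rw [pow_add, pow_add, pow_add]; ring

theorem E_zero : D.E 0 = 1 := by simp [E]

/-- The span of the generators. -/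
def M : Submodule B L := Submodule.span B (Set.range fun i : Fin D.N => D.E i)

theorem E_mem (i : ℕ) : D.E i ∈ D.M := by
  induction i using Nat.strong_induction_on with
  | h i ih =>
    rcases Nat.lt_or_ge i D.N with h | h
    · exact Submodule.subset_span ⟨⟨i, h⟩, rfl⟩
    · obtain ⟨j, rfl⟩ := Nat.exists_eq_add_of_le h
      rw [add_comm, D.E_add_N, ← Algebra.smul_def]
      exact D.M.smul_mem _ (ih j (Nat.lt_add_of_pos_left D.hN))

/-- The algebra. -/
def A : Subalgebra B L := Algebra.adjoin B (Set.range fun i : Fin D.N => D.E i)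

theorem mem_A {x : L} : x ∈ D.A ↔ x ∈ D.M := by
  refine ⟨fun hx => ?_, fun hx => Algebra.span_le_adjoin _ _ hx⟩
  induction hx using Algebra.adjoin_induction with
  | mem y hy => exact Submodule.subset_span hy
  | algebraMap b =>
    rw [Algebra.algebraMap_eq_smul_one, ← D.E_zero]
    exact D.M.smul_mem _ (D.E_mem 0)
  | add y z _ _ hy hz => exact add_mem hy hz
  | mul y z h1 h2 hy hz =>
    clear h1 h2
    induction hy, hz using Submodule.span_induction₂ with
    | mem_mem a b ha hb =>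
      obtain ⟨i, rfl⟩ := ha
      obtain ⟨j, rfl⟩ := hb
      rw [D.E_mul, ← Algebra.smul_def]
      exact D.M.smul_mem _ (D.E_mem _)
    | zero_left => rw [zero_mul]; exact zero_mem _
    | zero_right => rw [mul_zero]; exact zero_mem _
    | add_left => rw [add_mul]; exact add_mem ‹_› ‹_›
    | add_right => rw [mul_add]; exact add_mem ‹_› ‹_›
    | smul_left => rw [smul_mul_assoc]; exact D.M.smul_mem _ ‹_›
    | smul_right => rw [mul_smul_comm]; exact D.M.smul_mem _ ‹_›

/-- The generators as elements of the algebra. -/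
def e (i : ℕ) : D.A := ⟨D.E i, D.mem_A.mpr (D.E_mem i)⟩

theorem span_e : Submodule.span B (Set.range fun i : Fin D.N => D.e i) = ⊤ := by
  refine eq_top_iff.mpr fun x _ => ?_
  have h : Submodule.map D.A.val.toLinearMap (Submodule.span B (Set.range fun i : Fin D.N => D.e i))
      = D.M := by
    rw [Submodule.map_span, ← Set.range_comp]
    rfl
  obtain ⟨y, hy, hyx⟩ := h.ge (D.mem_A.mp x.2)
  rwa [show x = y from Subtype.ext hyx.symm]

theorem finite : Module.Finite B D.A :=
  Module.Finite.of_fg_top (D.span_e ▸ Submodule.fg_span (Set.finite_range _))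

variable [IsDomain B]

theorem f_ne_zero [Nontrivial L] : D.f ≠ 0 := fun h => by simpa [h] using D.hw

theorem li_e [Nontrivial L] : LinearIndependent B fun i : Fin D.N => D.e i := by
  refine Fintype.linearIndependent_iff.mpr fun c hc i => ?_
  have h0 : ∑ i, c i • D.E (i : ℕ) = 0 := by
    have := congrArg D.A.val hc
    simpa [map_sum, e] using this
  obtain ⟨K, hK⟩ : ∃ K, ∀ i : Fin D.N, (i : ℕ) * D.α / D.N ≤ K :=
    ⟨D.N * D.α, fun i => (Nat.div_le_self _ _).trans (Nat.mul_le_mul_right _ i.2.le)⟩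
  have h1 := D.li (fun i => c i * D.f ^ (K - (i : ℕ) * D.α / D.N)) (by
    rw [← zero_mul (algebraMap B L D.f ^ K), ← h0, Finset.sum_mul]
    refine Finset.sum_congr rfl fun i _ => ?_
    rw [E, Algebra.smul_def, Algebra.smul_def, map_mul, map_pow, ← D.w_pow_mul_pow (hK i)]
    ring) i
  exact (mul_eq_zero.mp h1).resolve_right (pow_ne_zero _ D.f_ne_zero)

theorem free [Nontrivial L] : Module.Free B D.A :=
  Module.Free.of_basis (Module.Basis.mk D.li_e D.span_e.ge)

/-- The `N`-th root itself. -/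
def tA : D.A := ⟨D.t, by
  have h : D.t = algebraMap B L (D.f ^ (1 * D.α / D.N)) * D.E 1 := by
    calc D.t = D.t * (algebraMap B L D.f * D.w) ^ (1 * D.α / D.N) := by
          rw [D.hw, one_pow, mul_one]
      _ = _ := by rw [E, map_pow, pow_one]; ring
  rw [h]
  exact mul_mem (D.A.algebraMap_mem _) (D.e 1).2⟩

theorem pow_t_eq (i : ℕ) :
    algebraMap B D.A (D.f ^ (i * D.α / D.N)) * D.e i = D.tA ^ i := Subtype.ext <| by
  calc algebraMap B L (D.f ^ (i * D.α / D.N)) * D.E i
      = (algebraMap B L D.f * D.w) ^ (i * D.α / D.N) * D.t ^ i := by rw [E, map_pow]; ring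
    _ = D.t ^ i := by rw [D.hw, one_pow, one_mul]

theorem tA_pow : D.tA ^ D.N = algebraMap B D.A ((D.u : B) * D.f ^ D.α) := Subtype.ext <| by
  show D.t ^ D.N = algebraMap B L ((D.u : B) * D.f ^ D.α)
  rw [D.ht, map_mul, map_pow]

theorem exists_poly (a : D.A) :
    ∃ h : B[X], algebraMap B D.A D.f ^ (D.N * D.α) * a = aeval D.tA h := by
  induction (D.span_e ▸ Submodule.mem_top : a ∈ Submodule.span B (Set.range fun i : Fin D.N => D.e i))
    using Submodule.span_induction with
  | mem x hx =>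
    obtain ⟨i, rfl⟩ := hx
    obtain ⟨c, hc⟩ := Nat.exists_eq_add_of_le
      ((Nat.div_le_self _ D.N).trans (Nat.mul_le_mul_right D.α i.2.le) : (i : ℕ) * D.α / D.N ≤ D.N * D.α)
    refine ⟨C (D.f ^ c) * X ^ (i : ℕ), ?_⟩
    rw [map_mul, aeval_C, aeval_X_pow, ← D.pow_t_eq, hc, pow_add, map_pow, map_pow]
    ring
  | zero => exact ⟨0, by simp⟩
  | add x y _ _ hx hy =>
    obtain ⟨h, hx⟩ := hx
    obtain ⟨h', hy⟩ := hy
    exact ⟨h + h', by rw [mul_add, hx, hy, map_add]⟩
  | smul r x _ hx =>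
    obtain ⟨h, hx⟩ := hx
    exact ⟨C r * h, by rw [map_mul, aeval_C, ← hx, Algebra.smul_def]; ring⟩

end Setup

end Groth.L28.Cyclic
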