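import Mathlib.RingTheory.RegularLocalRing.Defs
import Mathlib.RingTheory.KrullDimension.NonZeroDivisors
import Mathlib.RingTheory.Ideal.KrullsHeightTheorem
import Mathlib.RingTheory.Ideal.GoingDown
import Mathlib.FieldTheory.Separable
import Mathlib.RingTheory.Localization.Integral

/-!
Regularity of the points of a finite flat cover whose fibres are cut out by a separable binomial.
-/

set_option autoImplicit false
universe u

open Polynomial IsLocalRing

namespace Groth.L28.Cyclic

variable {B A : Type u} [CommRing B] [CommRing A]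

/-- Generators of a prime near itself, as many as the dimension of the regular localization. -/
theorem exists_gens (P : Ideal B) [P.IsPrime] (h : IsRegularLocalRing (Localization.AtPrime P)) :
    ∃ (n : ℕ) (G : Fin n → B), (∀ i, G i ∈ P) ∧
      (n : WithBot ℕ∞) ≤ ringKrullDim (Localization.AtPrime P) ∧
      ∀ x ∈ P, ∃ t, t ∉ P ∧ t * x ∈ Ideal.span (Set.range G) := by
  obtain ⟨s, hcard, hspan⟩ := Submodule.FG.exists_span_finset_card_eq_spanFinrank
    (IsNoetherian.noetherian (maximalIdeal (Localization.AtPrime P)))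
  have hnum : ∀ g : s, ∃ a ∈ P, ∃ t : P.primeCompl,
      (g : Localization.AtPrime P) * algebraMap B _ t = algebraMap B _ a := fun g => by
    obtain ⟨⟨a, t⟩, hat⟩ := IsLocalization.surj P.primeCompl (g : Localization.AtPrime P)
    refine ⟨a, ?_, t, hat⟩
    have hm : algebraMap B (Localization.AtPrime P) a ∈ maximalIdeal _ := by
      rw [← hat]
      exact Ideal.mul_mem_right _ _ (hspan ▸ Submodule.subset_span g.2)
    exact (IsLocalization.AtPrime.to_map_mem_maximal_iff _ P a).mp hm
  choose a ha t hat using hnum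
  refine ⟨s.card, fun i => a (s.equivFin.symm i), fun i => ha _, ?_, fun x hx => ?_⟩
  · rw [hcard]
    exact h.spanFinrank_maximalIdeal.le
  have hle : maximalIdeal (Localization.AtPrime P) ≤
      (Ideal.span (Set.range fun i => a (s.equivFin.symm i))).map (algebraMap B _) := by
    rw [← hspan]
    refine Submodule.span_le.mpr fun g hg => ?_
    obtain ⟨v, hv⟩ := IsLocalization.map_units (Localization.AtPrime P) (t ⟨g, hg⟩)
    rw [SetLike.mem_coe, show g = algebraMap B _ (a ⟨g, hg⟩) * ↑v⁻¹ by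
      rw [← hat ⟨g, hg⟩, ← hv, Units.mul_inv_cancel_right]]
    exact Ideal.mul_mem_right _ _ (Ideal.mem_map_of_mem _
      (Ideal.subset_span ⟨s.equivFin ⟨g, hg⟩, by simp⟩))
  obtain ⟨m, hm, hm'⟩ := (IsLocalization.algebraMap_mem_map_algebraMap_iff P.primeCompl
    (Localization.AtPrime P) _ x).mp
      (hle ((IsLocalization.AtPrime.to_map_mem_maximal_iff _ P x).mpr hx))
  exact ⟨m, hm, hm'⟩

/-- In a squarefree polynomial ring quotient every element is divisible by its square. -/
theorem exists_sq_dvd {κ : Type u} [Field κ] {m : κ[X]} (hm : Squarefree m) (h : κ[X]) :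
    ∃ r, m ∣ h - h ^ 2 * r := by
  classical
  obtain ⟨m', hm'⟩ := EuclideanDomain.gcd_dvd_left m h
  have hmd : EuclideanDomain.gcd m h * m' = m := hm'.symm
  have hrel : IsRelPrime m' h := fun e he1 he2 => by
    have hed : e ∣ EuclideanDomain.gcd m h :=
      EuclideanDomain.dvd_gcd (hmd ▸ he1.mul_left _) he2
    exact hm e (hmd ▸ mul_dvd_mul hed he1)
  obtain ⟨a, b, hab⟩ := hrel.isCoprime
  refine ⟨b, ?_⟩
  rw [show h - h ^ 2 * b = a * (h * m') by linear_combination (-h) * hab, ← hmd]
  exact (mul_dvd_mul (EuclideanDomain.gcd_dvd_right m h) dvd_rfl).mul_left _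

variable [Algebra B A]

/-- Elements of `Q` are locally in `J`, when `A` is locally modulo `J` generated by a root `z` of a
separable binomial. -/
theorem fibre (P : Ideal B) [P.IsPrime] (Q : Ideal A) [Q.IsPrime]
    (hPQ : Q.comap (algebraMap B A) = P) (J : Ideal A) (z : A) (g : ℕ) (b₀ : B)
    (hb₀ : b₀ ∉ P) (hg : (g : B) ∉ P) (hg0 : g ≠ 0) (hz : z ^ g = algebraMap B A b₀)
    (hgen : ∀ a : A, ∃ (t : A) (h : B[X]), t ∉ Q ∧ t * a - aeval z h ∈ J)
    (hP : ∀ p ∈ P, ∃ t, t ∉ Q ∧ t * algebraMap B A p ∈ J) :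
    ∀ x ∈ Q, ∃ t, t ∉ Q ∧ t * x ∈ J := by
  classical
  intro x hx
  obtain ⟨t₀, h, ht₀, hth⟩ := hgen x
  let D := B ⧸ P
  let κ := FractionRing D
  let ρ : B →+* κ := (algebraMap D κ).comp (Ideal.Quotient.mk P)
  have hρ : ∀ b, b ∉ P → ρ b ≠ 0 := fun b hb hh => hb (Ideal.Quotient.eq_zero_iff_mem.mp
    ((map_eq_zero_iff _ (IsFractionRing.injective D κ)).mp hh))
  let mB : B[X] := X ^ g - C b₀
  have hmB : mB.Monic := monic_X_pow_sub_C _ hg0
  have hsep : (mB.map ρ).Separable := by
    rw [Polynomial.map_sub, Polynomial.map_pow, map_X, map_C]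
    exact separable_X_pow_sub_C _ (by rw [← map_natCast ρ]; exact hρ _ hg) (hρ _ hb₀)
  obtain ⟨r, hr⟩ := exists_sq_dvd hsep.squarefree (h.map ρ)
  obtain ⟨c, hc, hcr⟩ := IsLocalization.integerNormalization_spec (nonZeroDivisors D) r
  obtain ⟨r', hr'⟩ := Polynomial.map_surjective _ (Ideal.Quotient.mk_surjective (I := P))
    (IsLocalization.integerNormalization (nonZeroDivisors D) r)
  obtain ⟨c, rfl⟩ := Ideal.Quotient.mk_surjective c
  have hcP : c ∉ P := fun h0 => nonZeroDivisors.ne_zero hc (Ideal.Quotient.eq_zero_iff_mem.mpr h0)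
  let q : B[X] := C c * h - h ^ 2 * r'
  have hq : mB.map ρ ∣ q.map ρ := by
    have e : r'.map ρ = C (ρ c) * r := by
      rw [← Polynomial.map_map, hr', hcr, ← algebraMap_smul κ, smul_eq_C_mul]
      rfl
    have eq : q.map ρ = C (ρ c) * (h.map ρ - h.map ρ ^ 2 * r) := by
      simp only [q, Polynomial.map_sub, Polynomial.map_mul, Polynomial.map_pow, map_C, e]
      ring
    rw [eq]
    exact hr.mul_left _
  have hrem : ∀ i, (q %ₘ mB).coeff i ∈ P := fun i => by
    have h0 : (q %ₘ mB).map ρ = 0 := by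
      rw [map_modByMonic _ hmB]
      exact (modByMonic_eq_zero_iff_dvd (hmB.map ρ)).mpr hq
    by_contra hi
    exact hρ _ hi (by rw [← coeff_map, h0, coeff_zero])
  -- the set of elements that are locally in `J`
  let I : Ideal A :=
    { carrier := {y | ∃ t, t ∉ Q ∧ t * y ∈ J}
      add_mem' := fun {y y'} ⟨t, ht, hty⟩ ⟨t', ht', hty'⟩ =>
        ⟨t * t', Ideal.IsPrime.mul_notMem ‹_› ht ht', by
          rw [show t * t' * (y + y') = t' * (t * y) + t * (t' * y') by ring]
          exact add_mem (J.mul_mem_left _ hty) (J.mul_mem_left _ hty')⟩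
      zero_mem' := ⟨1, fun h1 => ‹Q.IsPrime›.ne_top ((Q.eq_top_iff_one).mpr h1), by simp⟩
      smul_mem' := fun a y ⟨t, ht, hty⟩ => ⟨t, ht, by
        rw [smul_eq_mul, mul_left_comm]; exact J.mul_mem_left _ hty⟩ }
  have hqI : aeval z q ∈ I := by
    have hmz : aeval z mB = 0 := by
      simp [mB, hz]
    rw [← modByMonic_add_div (p := q) (q := mB), map_add, map_mul, hmz, zero_mul, add_zero,
      aeval_eq_sum_range]
    refine Ideal.sum_mem _ fun i _ => ?_
    rw [Algebra.smul_def]
    exact Ideal.mul_mem_right _ _ (hP _ (hrem i))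
  obtain ⟨t₁, ht₁, ht₁q⟩ := hqI
  rw [map_sub, map_mul, map_mul, map_pow, aeval_C] at ht₁q
  have key : algebraMap B A c - t₀ * x * aeval z r' ∉ Q := fun hh => by
    refine hcP ((hPQ ▸ Iff.rfl : c ∈ Q.comap (algebraMap B A) ↔ c ∈ P).mp ?_)
    rw [Ideal.mem_comap, ← sub_add_cancel (algebraMap B A c) (t₀ * x * aeval z r')]
    exact add_mem hh (Q.mul_mem_right _ (Q.mul_mem_left _ hx))
  refine ⟨t₁ * t₀ * (algebraMap B A c - t₀ * x * aeval z r'),
    Ideal.IsPrime.mul_notMem ‹_› (Ideal.IsPrime.mul_notMem ‹_› ht₁ ht₀) key, ?_⟩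
  rw [show t₁ * t₀ * (algebraMap B A c - t₀ * x * aeval z r') * x =
      t₁ * (algebraMap B A c * aeval z h - aeval z h ^ 2 * aeval z r') +
      (t₁ * algebraMap B A c * (t₀ * x - aeval z h) -
        t₁ * aeval z r' * (t₀ * x + aeval z h) * (t₀ * x - aeval z h)) by ring]
  exact add_mem ht₁q (sub_mem (J.mul_mem_left _ hth) (J.mul_mem_left _ hth))

/-- Regularity from few local generators. -/
theorem isRegularLocalRing_of_gens [IsNoetherianRing B] [IsNoetherianRing A] [Module.Flat B A] (P : Ideal B) [P.IsPrime]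
    (Q : Ideal A) [Q.IsPrime] (hPQ : Q.comap (algebraMap B A) = P) {n : ℕ} (G : Fin n → A)
    (hn : (n : WithBot ℕ∞) ≤ ringKrullDim (Localization.AtPrime P)) (hG : ∀ i, G i ∈ Q)
    (hgen : ∀ x ∈ Q, ∃ t, t ∉ Q ∧ t * x ∈ Ideal.span (Set.range G)) :
    IsRegularLocalRing (Localization.AtPrime Q) := by
  classical
  refine IsRegularLocalRing.of_spanFinrank_maximalIdeal_le _ ?_
  have hmax : maximalIdeal (Localization.AtPrime Q) =
      Ideal.span (Set.range fun i => algebraMap A (Localization.AtPrime Q) (G i)) := by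
    refine le_antisymm ?_ (Ideal.span_le.mpr ?_)
    · rw [← Localization.AtPrime.map_eq_maximalIdeal, Ideal.map_le_iff_le_comap]
      intro x hx
      obtain ⟨t, ht, htx⟩ := hgen x hx
      have := Ideal.mem_map_of_mem (algebraMap A (Localization.AtPrime Q)) htx
      rw [Ideal.map_span, ← Set.range_comp, map_mul] at this
      exact (Ideal.unit_mul_mem_iff_mem _ (IsLocalization.map_units (Localization.AtPrime Q)
        (⟨t, ht⟩ : Q.primeCompl))).mp this
    · rintro _ ⟨i, rfl⟩
      exact (IsLocalization.AtPrime.to_map_mem_maximal_iff _ Q (G i)).mpr (hG i)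
  have hd : ringKrullDim (Localization.AtPrime P) ≤ ringKrullDim (Localization.AtPrime Q) := by
    have : Q.LiesOver P := ⟨hPQ.symm⟩
    rw [IsLocalization.AtPrime.ringKrullDim_eq_height P,
      IsLocalization.AtPrime.ringKrullDim_eq_height Q,
      Ideal.height_eq_height_add_of_liesOver_of_hasGoingDown P Q]
    exact WithBot.coe_le_coe.mpr le_self_add
  refine le_trans ?_ (hn.trans hd)
  rw [hmax]
  refine Nat.cast_le.mpr ((Submodule.spanFinrank_span_le_ncard_of_finite (Set.finite_range _)).trans ?_)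
  rw [← Set.image_univ]
  exact (Set.ncard_image_le Set.finite_univ).trans (by simp [Set.ncard_univ])

end Groth.L28.Cyclic
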