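import Groth.Agent.L28.Cyclic.Cover

/-!
The cyclic cover algebra is regular and integrally closed.
-/

set_option autoImplicit false
universe u

open Polynomial IsLocalRing

namespace Groth.L28.Cyclic

variable {B L : Type u} [CommRing B] [CommRing L] [Algebra B L]

namespace Setup

variable (D : Setup B L)

theorem E_add_mul_N (i m : ℕ) : D.E (i + D.N * m) = algebraMap B L D.u ^ m * D.E i := by
  induction m with
  | zero => simp
  | succ m ih => rw [Nat.mul_succ, ← Nat.add_assoc, D.E_add_N, ih, pow_succ']; ring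

variable [IsDomain B] [IsNoetherianRing B] [Nontrivial L]

theorem regular_of_notMem (hreg : ∀ (P : Ideal B) [P.IsPrime], IsRegularLocalRing (Localization.AtPrime P))
    (hNB : IsUnit (D.N : B)) (Q : Ideal D.A) [Q.IsPrime] (hf : algebraMap B D.A D.f ∉ Q) :
    IsRegularLocalRing (Localization.AtPrime Q) := by
  have := D.free
  have := D.finite
  have : IsNoetherianRing D.A := Algebra.FiniteType.isNoetherianRing B D.A
  let P := Q.comap (algebraMap B D.A)
  obtain ⟨n, G, hGP, hn, hG⟩ := exists_gens P (hreg P)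
  refine isRegularLocalRing_of_gens P Q rfl (algebraMap B D.A ∘ G) hn hGP ?_
  refine fibre P Q rfl _ D.tA D.N ((D.u : B) * D.f ^ D.α) ?_ ?_ D.hN.ne' D.tA_pow
    (fun a => ?_) (fun p hp => ?_)
  · exact Ideal.IsPrime.mul_notMem inferInstance
      (fun h => (inferInstance : P.IsPrime).ne_top (Ideal.eq_top_of_isUnit_mem _ h D.u.isUnit))
      (fun h => hf (Ideal.IsPrime.mem_of_pow_mem (inferInstance : P.IsPrime) _ h))
  · exact fun h => (inferInstance : P.IsPrime).ne_top (Ideal.eq_top_of_isUnit_mem _ h hNB)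
  · obtain ⟨h, hh⟩ := D.exists_poly a
    exact ⟨_, h, fun h' => hf (Ideal.IsPrime.mem_of_pow_mem ‹_› _ h'),
      by rw [hh, sub_self]; exact zero_mem _⟩
  · obtain ⟨t, ht, htp⟩ := hG p hp
    refine ⟨algebraMap B D.A t, ht, ?_⟩
    rw [← map_mul, Set.range_comp, ← Ideal.map_span]
    exact Ideal.mem_map_of_mem _ htp

omit [IsDomain B] [IsNoetherianRing B] [Nontrivial L] in
theorem exists_uniformizer : ∃ (g : ℕ) (_ : g ∣ D.N) (z π : D.A) (_ : IsUnit z) (m : ℕ)
    (v : D.A), z ^ g = algebraMap B D.A D.u ∧ π ^ (m + 1) = algebraMap B D.A D.f * v ∧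
      algebraMap B D.A D.f ∈ Ideal.span {π} ∧
      ∀ i : ℕ, ∃ h : B[X], D.e i - aeval z h ∈ Ideal.span {π} := by
  obtain ⟨g, N', α', hg, hcop, hN, hα⟩ := Nat.exists_coprime' (Nat.gcd_pos_of_pos_left D.α D.hN)
  have hN' : 0 < N' := by
    by_contra h
    have := D.hN
    simp [Nat.eq_zero_of_not_pos h] at hN
    omega
  have hdiv : ∀ l : ℕ, l * N' * D.α / D.N = l * α' := fun l => by
    rw [hN, hα, show l * N' * (α' * g) = N' * g * (l * α') by ring,
      Nat.mul_div_cancel_left _ (Nat.mul_pos hN' hg)]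
  have hzpow : ∀ l : ℕ, D.e (l * N') = D.e N' ^ l := fun l => Subtype.ext <| by
    show D.E (l * N') = D.E N' ^ l
    have h1 := hdiv 1
    rw [one_mul, one_mul] at h1
    rw [E, E, hdiv, h1, mul_pow, ← pow_mul, ← pow_mul, mul_comm N' l, mul_comm α' l]
  have hzg : D.e N' ^ g = algebraMap B D.A D.u := by
    rw [← hzpow, show g * N' = D.N by rw [hN, mul_comm]]
    refine Subtype.ext ?_
    show D.E D.N = algebraMap B L D.u
    rw [← Nat.zero_add D.N, D.E_add_N, D.E_zero, mul_one]
  have hz : IsUnit (D.e N') :=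
    (isUnit_pow_iff hg.ne').mp (hzg ▸ D.u.isUnit.map (algebraMap B D.A))
  -- when `N'` is `1` every generator is a power of `z`
  rcases Nat.eq_or_lt_of_le hN' with h1 | h1
  · refine ⟨g, ⟨N', by rw [hN, mul_comm]⟩, D.e N', algebraMap B D.A D.f, hz, 0, 1, hzg, by simp,
      Ideal.mem_span_singleton_self _, fun i => ⟨X ^ i, ?_⟩⟩
    rw [aeval_X_pow, ← hzpow, show i * N' = i by rw [← h1]; simp, sub_self]
    exact zero_mem _
  obtain ⟨i₀, -, hi₀⟩ := Nat.exists_mul_mod_eq_one_of_coprime hcop.symm h1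
  obtain ⟨j, hj⟩ : ∃ j, i₀ * α' = j * N' + 1 := ⟨α' * i₀ / N', by
    conv_lhs => rw [mul_comm i₀ α', ← Nat.div_add_mod (α' * i₀) N', hi₀]
    ring⟩
  have hgN : g < D.N := by rw [hN]; exact lt_mul_of_one_lt_left hg h1
  have hi₀α : i₀ * D.α = j * D.N + g := by rw [hN, hα, ← mul_assoc, hj]; ring
  have hdi₀ : i₀ * D.α / D.N = j := by
    rw [hi₀α, add_comm, Nat.add_mul_div_right _ _ D.hN, Nat.div_eq_of_lt hgN, Nat.zero_add]
  have hpi : D.e i₀ ^ N' = algebraMap B D.A D.f * D.e N' ^ i₀ := Subtype.ext <| by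
    show D.E i₀ ^ N' = algebraMap B L D.f * D.E N' ^ i₀
    have h1' := hdiv 1
    rw [one_mul, one_mul] at h1'
    rw [E, E, hdi₀, h1', mul_pow, mul_pow, ← pow_mul, ← pow_mul, ← pow_mul, ← pow_mul,
      mul_comm N' i₀, mul_comm α' i₀, hj, pow_succ]
    calc _ = D.t ^ (i₀ * N') * D.w ^ (j * N') * (algebraMap B L D.f * D.w) := by
          rw [D.hw, mul_one]
      _ = _ := by ring
  obtain ⟨m, hm⟩ : ∃ m, N' = m + 1 := ⟨N' - 1, by omega⟩
  refine ⟨g, ⟨N', by rw [hN, mul_comm]⟩, D.e N', D.e i₀, hz, m, D.e N' ^ i₀, hzg, hm ▸ hpi, ?_,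
    fun i => ?_⟩
  · obtain ⟨v, hv⟩ := hz.pow i₀
    rw [show algebraMap B D.A D.f = D.e i₀ ^ N' * ↑v⁻¹ by
      rw [hpi, ← hv, Units.mul_inv_cancel_right]]
    exact Ideal.mul_mem_right _ _ (Ideal.pow_mem_of_mem _ (Ideal.mem_span_singleton_self _) _ hN')
  · rcases Nat.eq_zero_or_pos (i * D.α % D.N) with hr | hr
    · have hdvd : N' ∣ i := by
        have h2 : N' * g ∣ i * α' * g := by
          rw [← hN, mul_assoc, ← hα]; exact Nat.dvd_of_mod_eq_zero hr
        exact hcop.dvd_of_dvd_mul_right (Nat.dvd_of_mul_dvd_mul_right hg h2)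
      obtain ⟨l, rfl⟩ := hdvd
      refine ⟨X ^ l, ?_⟩
      rw [aeval_X_pow, ← hzpow, mul_comm N' l, sub_self]
      exact zero_mem _
    · refine ⟨0, ?_⟩
      rw [map_zero, sub_zero]
      obtain ⟨i', hi'⟩ := Nat.exists_eq_add_of_le
        ((Nat.le_mul_of_pos_left i₀ D.hN).trans (Nat.le_add_left _ i) : i₀ ≤ i + D.N * i₀)
      have hr' : g ≤ i * D.α % D.N := Nat.le_of_dvd hr ((Nat.dvd_mod_iff ⟨N', by rw [hN, mul_comm]⟩).mpr
        ⟨i * α', by rw [hα]; ring⟩)
      have hsum : (i₀ + i') * D.α = (i * D.α / D.N + i₀ * D.α) * D.N + i * D.α % D.N := by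
        rw [← hi']
        have := Nat.div_add_mod (i * D.α) D.N
        calc _ = i * D.α + D.N * (i₀ * D.α) := by ring
          _ = (D.N * (i * D.α / D.N) + i * D.α % D.N) + D.N * (i₀ * D.α) := by rw [this]
          _ = _ := by ring
      have hd : (i₀ + i') * D.α / D.N - (i₀ * D.α / D.N + i' * D.α / D.N) = 0 := by
        have hlt := Nat.mod_lt (i * D.α) D.hN
        generalize i * D.α % D.N = r at hsum hr' hlt
        generalize i * D.α / D.N + i₀ * D.α = q at hsum
        have hq : (i₀ + i') * D.α / D.N = q := by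
          rw [hsum, add_comm, Nat.add_mul_div_right _ _ D.hN, Nat.div_eq_of_lt hlt, Nat.zero_add]
        have hjq : j ≤ q := by
          rw [← hdi₀, ← hq]
          exact Nat.div_le_div_right (Nat.mul_le_mul_right _ (Nat.le_add_right _ _))
        obtain ⟨c, rfl⟩ := Nat.exists_eq_add_of_le hjq
        obtain ⟨r', rfl⟩ := Nat.exists_eq_add_of_le hr'
        have hi'α : i' * D.α = r' + c * D.N := by
          rw [Nat.add_mul, hi₀α, Nat.add_mul] at hsum
          omega
        rw [hq, hdi₀, hi'α, Nat.add_mul_div_right _ _ D.hN,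
          Nat.div_eq_of_lt (lt_of_le_of_lt (Nat.le_add_left r' g) hlt)]
        omega
      obtain ⟨v, hv⟩ := (D.u.isUnit.map (algebraMap B D.A)).pow i₀
      refine Ideal.mem_span_singleton.mpr ⟨D.e i' * ↑v⁻¹, ?_⟩
      rw [← mul_assoc]
      refine (Units.eq_mul_inv_iff_mul_eq v).mpr (Subtype.ext ?_)
      show D.E i * ((v : D.A) : L) = D.E i₀ * D.E i'
      rw [D.E_mul, hd, pow_zero, map_one, one_mul, ← hi', D.E_add_mul_N, hv, mul_comm]
      rfl

theorem regular_of_mem
    (hD : ∀ (P : Ideal (B ⧸ Ideal.span ({D.f} : Set B))) [P.IsPrime],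
      IsRegularLocalRing (Localization.AtPrime P))
    (hNB : IsUnit (D.N : B)) (Q : Ideal D.A) [Q.IsPrime] (hf : algebraMap B D.A D.f ∈ Q) :
    IsRegularLocalRing (Localization.AtPrime Q) := by
  classical
  have := D.free
  have := D.finite
  have : IsNoetherianRing D.A := Algebra.FiniteType.isNoetherianRing B D.A
  let P := Q.comap (algebraMap B D.A)
  let mk := Ideal.Quotient.mk (Ideal.span ({D.f} : Set B))
  have hfP : Ideal.span {D.f} ≤ P := (Ideal.span_singleton_le_iff_mem _).mpr hf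
  have hker : RingHom.ker mk ≤ P := by rw [Ideal.mk_ker]; exact hfP
  have hP' : (P.map mk).IsPrime := Ideal.map_isPrime_of_surjective Ideal.Quotient.mk_surjective hker
  have hcomap : P = (P.map mk).comap mk :=
    ((Ideal.comap_map_of_surjective' _ Ideal.Quotient.mk_surjective P).trans (sup_eq_left.mpr hker)).symm
  obtain ⟨n, Gb, hGb, hn, hG⟩ := exists_gens (P.map mk) (hD _)
  choose G hG' using fun i => Ideal.Quotient.mk_surjective (Gb i)
  have hGP : ∀ i, G i ∈ P := fun i => by rw [hcomap, Ideal.mem_comap]; exact (hG' i).symm ▸ hGb i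
  -- the dimension drops
  have hdim : ((n + 1 : ℕ) : WithBot ℕ∞) ≤ ringKrullDim (Localization.AtPrime P) := by
    let ψ := Localization.localRingHom P (P.map mk) mk hcomap
    have hψ : Function.Surjective ψ := fun y => by
      obtain ⟨a, s, rfl⟩ := IsLocalization.exists_mk'_eq (P.map mk).primeCompl y
      obtain ⟨a, rfl⟩ := Ideal.Quotient.mk_surjective a
      obtain ⟨s, hs⟩ := s
      obtain ⟨s, rfl⟩ := Ideal.Quotient.mk_surjective s
      exact ⟨IsLocalization.mk' _ a (⟨s, fun h => hs (Ideal.mem_map_of_mem mk h)⟩ : P.primeCompl),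
        Localization.localRingHom_mk' P (P.map mk) mk hcomap a _⟩
    have hr : algebraMap B (Localization.AtPrime P) D.f ∈ nonZeroDivisors _ := by
      have : IsDomain (Localization.AtPrime P) :=
        IsLocalization.isDomain_of_atPrime (Localization.AtPrime P) P
      exact mem_nonZeroDivisors_of_ne_zero ((map_ne_zero_iff _
        (IsLocalization.injective _ P.primeCompl_le_nonZeroDivisors)).mpr D.f_ne_zero)
    have h0 : ψ (algebraMap B _ D.f) = 0 := by
      rw [Localization.localRingHom_to_map, show mk D.f = 0 from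
        Ideal.Quotient.eq_zero_iff_mem.mpr (Ideal.mem_span_singleton_self _), map_zero]
    push_cast
    exact (add_le_add hn le_rfl).trans (ringKrullDim_succ_le_of_surjective ψ hψ hr h0)
  obtain ⟨g, hgN, z, π, hz, m, v, hzg, hπ, hfπ, hgen⟩ := D.exists_uniformizer
  have hπQ : π ∈ Q := Ideal.IsPrime.mem_of_pow_mem ‹_› (m + 1) (hπ ▸ Ideal.mul_mem_right _ _ hf)
  let G' : Fin (n + 1) → D.A := Fin.cons π (algebraMap B D.A ∘ G)
  refine isRegularLocalRing_of_gens P Q rfl G' hdim (fun i => ?_) ?_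
  · induction i using Fin.cases with
    | zero => simpa [G'] using hπQ
    | succ i => simpa [G', P, Ideal.mem_comap] using hGP i
  have hπJ : Ideal.span {π} ≤ Ideal.span (Set.range G') :=
    Ideal.span_mono (Set.singleton_subset_iff.mpr ⟨0, by simp [G']⟩)
  refine fibre P Q rfl _ z g (D.u : B) ?_ ?_ ?_ hzg (fun a => ?_) (fun p hp => ?_)
  · exact fun h => (inferInstance : P.IsPrime).ne_top (Ideal.eq_top_of_isUnit_mem _ h D.u.isUnit)
  · exact fun h => (inferInstance : P.IsPrime).ne_top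
      (Ideal.eq_top_of_isUnit_mem _ h (isUnit_of_dvd_unit (Nat.cast_dvd_cast hgN) hNB))
  · exact fun h => D.hN.ne' (Nat.eq_zero_of_zero_dvd (h ▸ hgN))
  · refine ⟨1, ?_⟩
    suffices h : ∃ h : B[X], a - aeval z h ∈ Ideal.span (Set.range G') by
      obtain ⟨h, hh⟩ := h
      exact ⟨h, fun h1 => ‹Q.IsPrime›.ne_top ((Q.eq_top_iff_one).mpr h1), by rwa [one_mul]⟩
    induction (D.span_e ▸ Submodule.mem_top :
        a ∈ Submodule.span B (Set.range fun i : Fin D.N => D.e i)) using Submodule.span_induction with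
    | mem x hx =>
      obtain ⟨i, rfl⟩ := hx
      obtain ⟨h, hh⟩ := hgen i
      exact ⟨h, hπJ hh⟩
    | zero => exact ⟨0, by simp⟩
    | add x y _ _ hx hy =>
      obtain ⟨h, hh⟩ := hx
      obtain ⟨h', hh'⟩ := hy
      exact ⟨h + h', by rw [map_add, add_sub_add_comm]; exact add_mem hh hh'⟩
    | smul r x _ hx =>
      obtain ⟨h, hh⟩ := hx
      refine ⟨C r * h, ?_⟩
      rw [map_mul, aeval_C, Algebra.smul_def, ← mul_sub]
      exact Ideal.mul_mem_left _ _ hh
  · obtain ⟨t, ht, htp⟩ := hG (mk p) (Ideal.mem_map_of_mem mk hp)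
    obtain ⟨t, rfl⟩ := Ideal.Quotient.mk_surjective t
    refine ⟨algebraMap B D.A t, fun h => ht (Ideal.mem_map_of_mem mk h), ?_⟩
    rw [← map_mul, show Gb = mk ∘ G from funext fun i => (hG' i).symm, Set.range_comp,
      ← Ideal.map_span] at htp
    obtain ⟨y, hy, hyz⟩ := (Ideal.mem_map_iff_of_surjective mk Ideal.Quotient.mk_surjective).mp htp
    obtain ⟨c, hc⟩ := Ideal.mem_span_singleton.mp
      (Ideal.Quotient.eq.mp hyz.symm : t * p - y ∈ Ideal.span {D.f})
    rw [← map_mul, show t * p = y + D.f * c by rw [← hc, add_sub_cancel], map_add, map_mul]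
    refine add_mem ?_ (Ideal.mul_mem_right _ _ (hπJ hfπ))
    have : (Ideal.span (Set.range G)).map (algebraMap B D.A) ≤ Ideal.span (Set.range G') := by
      rw [Ideal.map_span, ← Set.range_comp]
      exact Ideal.span_mono (Set.range_subset_iff.mpr fun i => ⟨i.succ, by simp [G']⟩)
    exact this (Ideal.mem_map_of_mem _ hy)

theorem regular
    (hreg : ∀ (P : Ideal B) [P.IsPrime], IsRegularLocalRing (Localization.AtPrime P))
    (hD : ∀ (P : Ideal (B ⧸ Ideal.span ({D.f} : Set B))) [P.IsPrime],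
      IsRegularLocalRing (Localization.AtPrime P))
    (hNB : IsUnit (D.N : B)) (Q : Ideal D.A) [Q.IsPrime] :
    IsRegularLocalRing (Localization.AtPrime Q) := by
  by_cases hf : algebraMap B D.A D.f ∈ Q
  · exact D.regular_of_mem hD hNB Q hf
  · exact D.regular_of_notMem hreg hNB Q hf

omit [IsDomain B] [IsNoetherianRing B] [Nontrivial L] in
theorem exists_mul_mem (x : L) : ∃ (n : ℕ) (a : D.A), x * algebraMap B L D.f ^ n = a := by
  obtain ⟨n, hn⟩ := D.span x
  refine ⟨n, ⟨_, ?_⟩, rfl⟩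
  have hle : Submodule.span B (Set.range fun i : Fin D.N => D.t ^ (i : ℕ)) ≤
      Subalgebra.toSubmodule D.A :=
    Submodule.span_le.mpr (Set.range_subset_iff.mpr fun i => pow_mem D.tA.2 _)
  exact hle hn

omit [IsDomain B] [IsNoetherianRing B] [Nontrivial L] in
theorem integrallyClosed (hA : ∀ (Q : Ideal D.A) [Q.IsPrime],
      IsRegularLocalRing (Localization.AtPrime Q))
    (x : L) (hx : IsIntegral D.A x) : x ∈ D.A := by
  obtain ⟨n, a₀, ha₀⟩ := D.exists_mul_mem x
  let J : Ideal D.A :=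
    { carrier := {s | (s : L) * x ∈ D.A}
      add_mem' := fun {s s'} hs hs' => by
        show ((s + s' : D.A) : L) * x ∈ D.A
        rw [Subalgebra.coe_add, add_mul]; exact add_mem hs hs'
      zero_mem' := by
        show ((0 : D.A) : L) * x ∈ D.A
        rw [Subalgebra.coe_zero, zero_mul]; exact zero_mem _
      smul_mem' := fun c s hs => by
        show ((c * s : D.A) : L) * x ∈ D.A
        rw [Subalgebra.coe_mul, mul_assoc]; exact mul_mem c.2 hs }
  suffices J = ⊤ by
    have h1 : ((1 : D.A) : L) * x ∈ D.A := (this ▸ Submodule.mem_top : (1 : D.A) ∈ J)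
    rwa [Subalgebra.coe_one, one_mul] at h1
  by_contra hJ
  obtain ⟨m, hm, hJm⟩ := Ideal.exists_le_maximal J hJ
  have := hA m
  have : IsDomain (Localization.AtPrime m) := Groth.L01.isDomain_of_regular _
  have := Groth.L03.RegularNormal.isIntegrallyClosed (Localization.AtPrime m)
  let K := FractionRing (Localization.AtPrime m)
  let ι := algebraMap D.A (Localization.AtPrime m)
  let κ : D.A →+* K := (algebraMap (Localization.AtPrime m) K).comp ι
  let F : D.A := algebraMap B D.A D.f ^ n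
  have hF : ∀ y : D.A, F * y = 0 → y = 0 := fun y hy => Subtype.ext <| by
    have h := congrArg (fun z : D.A => D.w ^ n * (z : L)) hy
    simp only [Subalgebra.coe_mul, Subalgebra.coe_zero, mul_zero, F, SubmonoidClass.coe_pow] at h
    have e : D.w ^ n * (algebraMap B L D.f ^ n) = 1 := by rw [← mul_pow, mul_comm, D.hw, one_pow]
    rw [← one_mul (y : L), ← e, mul_assoc]
    exact h
  have hFK : κ F ≠ 0 := fun h => by
    have h' : ι F = 0 := (map_eq_zero_iff _ (IsFractionRing.injective _ K)).mp h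
    obtain ⟨⟨s, hs⟩, hs'⟩ := (IsLocalization.map_eq_zero_iff m.primeCompl _ F).mp h'
    exact hs ((hF s (by rw [mul_comm]; exact hs')) ▸ m.zero_mem)
  obtain ⟨p, hp, hp'⟩ := hx
  have hroot : Polynomial.eval a₀ (p.scaleRoots F) = 0 := by
    refine Subtype.ext ?_
    show algebraMap D.A L (Polynomial.eval a₀ (p.scaleRoots F)) = algebraMap D.A L 0
    rw [← Polynomial.eval₂_at_apply, map_zero,
      show algebraMap D.A L a₀ = algebraMap D.A L F * x from
        ha₀.symm.trans (mul_comm _ _), Polynomial.scaleRoots_eval₂_mul, hp', mul_zero]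
  have hint : IsIntegral (Localization.AtPrime m) (κ a₀ / κ F) := by
    refine ⟨p.map ι, hp.map ι, ?_⟩
    rw [Polynomial.eval₂_map]
    have h := congrArg κ hroot
    rw [← Polynomial.eval₂_at_apply, map_zero, show κ a₀ = κ F * (κ a₀ / κ F) by
      rw [mul_div_cancel₀ _ hFK], Polynomial.scaleRoots_eval₂_mul] at h
    exact (mul_eq_zero.mp h).resolve_left (pow_ne_zero _ hFK)
  obtain ⟨y, hy⟩ := IsIntegrallyClosed.isIntegral_iff.mp hint
  obtain ⟨⟨b, s⟩, hbs⟩ := IsLocalization.surj m.primeCompl y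
  have heq : ι (a₀ * s) = ι (F * b) := by
    refine IsFractionRing.injective (Localization.AtPrime m) K ?_
    simp only [map_mul]
    rw [show algebraMap _ K (ι b) = algebraMap _ K (y * ι s) from congrArg _ hbs.symm, map_mul, hy]
    show κ a₀ * κ s = κ F * (κ a₀ / κ F * κ s)
    rw [← mul_assoc, mul_div_cancel₀ _ hFK]
  obtain ⟨v, hv⟩ := (IsLocalization.eq_iff_exists m.primeCompl _).mp heq
  refine (Ideal.IsPrime.mul_notMem inferInstance v.2 s.2) (hJm ?_)
  show ((v.1 * s.1 : D.A) : L) * x ∈ D.A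
  have h := congrArg (fun z : D.A => (z : L) * D.w ^ n) hv
  simp only [Subalgebra.coe_mul, F, SubmonoidClass.coe_pow] at h
  have e : algebraMap B L D.f ^ n * D.w ^ n = 1 := by rw [← mul_pow, D.hw, one_pow]
  have hx' : x = (a₀ : L) * D.w ^ n := by rw [← ha₀, mul_assoc, e, mul_one]
  have : ((v.1 * s.1 : D.A) : L) * x = ((v.1 * b : D.A) : L) := by
    rw [hx', Subalgebra.coe_mul, Subalgebra.coe_mul]
    calc _ = (v.1 : L) * ((a₀ : L) * (s.1 : L)) * D.w ^ n := by ring
      _ = (v.1 : L) * (algebraMap B L D.f ^ n * (b : L)) * D.w ^ n := h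
      _ = (v.1 : L) * (b : L) * (algebraMap B L D.f ^ n * D.w ^ n) := by ring
      _ = _ := by rw [e, mul_one]
  rw [this]
  exact Subtype.coe_prop _

end Setup

end Groth.L28.Cyclic
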